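/-
Residual limits pass to normal subsystems over subgroups containing the hyperfocal subgroup.
-/
import Cfsg.Agent.Lib.Fusion.Wedge.Saturated
import Cfsg.Agent.Lib.Fusion.WeaklyNormalResidual
import Cfsg.Agent.Lib.Fusion.PPrimeResidual
import Cfsg.Agent.Lib.Fusion.PPowerExists
import Cfsg.Agent.Lib.Fusion.PPowerNormal
import Cfsg.Agent.Lib.Fusion.Hyperfocal
import Cfsg.Prelude.Def_FusionReduction

set_option autoImplicit false

namespace Cfsg.Agent.Lib.Fusion.ResLimit

open Cfsg Cfsg.FusionSystem

universe u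

variable {Ω : Type u} [Group Ω] {S T U : Subgroup Ω} {F : FusionSystem S} {p : ℕ}

theorem le_of_subsystem {E : FusionSystem T} (h : E.IsSubsystemOf F) : T ≤ S :=
  src_le (h T (E.conj_mem le_rfl T.one_mem))

theorem hyperfocal_mono {E : FusionSystem T} (h : E.IsSubsystemOf F) :
    E.hyperfocalSubgroup p ≤ F.hyperfocalSubgroup p := by
  refine (Subgroup.closure_le _).2 ?_
  rintro _ ⟨P, α, x, hP, hα, rfl⟩
  obtain ⟨β, hβ, hβe⟩ := map_pResidual_autGroup_mono h P ⟨α, hα, rfl⟩
  exact Subgroup.subset_closure ⟨P, β, x, hP.trans (le_of_subsystem h), hβ, by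
    rw [show (β : MulAut P) = (α : MulAut P) from hβe]⟩

/-- A weakly normal subsystem is weakly normal in every saturated system in between. -/
theorem isWeaklyNormalIn_sub [Fact p.Prime] [Finite S] (hS : IsPGroup p S) {M : FusionSystem T}
    {N : FusionSystem U} (hM : M.IsWeaklyNormalIn F p) (hN : N.IsSaturated p)
    (hNF : N.IsSubsystemOf F) (hMN : M.IsSubsystemOf N) : M.IsWeaklyNormalIn N p := by
  have hTU : T ≤ U := le_of_subsystem hMN
  have hUS : U ≤ S := le_of_subsystem hNF
  haveI : Finite U := finite_of_le hUS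
  have hstr := stronglyInvariant_of_isWeaklyNormalIn hS hM
  exact ⟨hM.1, hN, (Cfsg.Agent.S5119.result p (hS.to_le hUS) N hN M hMN
    (stronglyClosed_of_subsystem hNF hM.2.2.2.1 hTU)).mpr
      fun P Q hPQ hQT φ hφ hφQ ψ hψ => hstr P Q hPQ hQT φ hφ hφQ ψ (hNF Q hψ)⟩

/-- A weakly normal subsystem over the same group has index prime to `p`. -/
theorem hasPAut_of_isWeaklyNormalIn [Fact p.Prime] [Finite S] (hS : IsPGroup p S)
    {D : FusionSystem S} (hD : D.IsWeaklyNormalIn F p) : HasPAut D F p :=
  fun _ hP _ hα hk => autHom_mem_of_stronglyInvariant hS le_rfl hD.2.1 (fun _ _ h => h)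
    (stronglyInvariant_of_isWeaklyNormalIn hS hD) hP.1 hα hk

theorem pPrimeResidual_subsystem_of_isWeaklyNormalIn [Fact p.Prime] [Finite S]
    (hS : IsPGroup p S) {R D : FusionSystem S} (hR : F.IsPPrimeResidual p R)
    (hD : D.IsWeaklyNormalIn F p) : R.IsSubsystemOf D :=
  hR.2.2 D hD.1 (hasPrimeToPIndexIn_of_hasPAut hS hD.2.1 hD.2.2.1
    (hasPAut_of_isWeaklyNormalIn hS hD))

theorem pPrimeResidual_le_of_eq [Fact p.Prime] [Finite S] (hS : IsPGroup p S)
    {R : FusionSystem S} (hR : F.IsPPrimeResidual p R) {W : FusionSystem U} (he : U = S)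
    (hW : W.IsWeaklyNormalIn F p) : R.IsSubsystemOf W := by
  subst he
  exact pPrimeResidual_subsystem_of_isWeaklyNormalIn hS hR hW

theorem isNormalIn_pResidual [Fact p.Prime] [Finite S] (hS : IsPGroup p S) (hF : F.IsSaturated p)
    {D : FusionSystem (F.hyperfocalSubgroup p)} (hD : F.IsPResidual p D) : D.IsNormalIn F p :=
  isNormalIn_of_hasPPowerIndexIn hS hF (hyperfocalSubgroup_le_self F p) (hyperfocal_normal F p)
    hD.1 hD.2

theorem eq_pPrimeResidualSystem [Fact p.Prime] [Finite S] (hS : IsPGroup p S)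
    (hF : F.IsSaturated p) {R : FusionSystem S} (hR : F.IsPPrimeResidual p R) :
    R = pPrimeResidualSystem F p :=
  fusionSystem_eq_of_le
    (hR.2.2 _ (isSaturated_pPrimeResidualSystem hS hF)
      (isPPrimeResidual_pPrimeResidualSystem hS hF).2.1)
    (pPrimeResidualSystem_le hS hF hR.1 hR.2.1)

/-- The `p'`-residual of a system is its own `p'`-residual. -/
theorem pPrimeResidualSystem_idem [Fact p.Prime] [Finite S] (hS : IsPGroup p S)
    (hF : F.IsSaturated p) {R : FusionSystem S} (hR : F.IsPPrimeResidual p R) :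
    pPrimeResidualSystem R p = R := by
  refine fusionSystem_eq_of_le (fun _ _ h => h.1) (hR.2.2 _
    (isSaturated_pPrimeResidualSystem hS hR.1) ?_)
  refine hasPrimeToPIndexIn_of_hasPAut hS hF (fun P φ h => hR.2.1.1 P h.1) ?_
  intro P hP α hα hk
  have hα' : α ∈ R.autGroup P :=
    (mem_autGroup hP.1).2 (hasPAut_of_hasPrimeToPIndexIn hR.2.1 P hP α hα hk)
  refine hasPAut_pPrimeResidualSystem R p P ⟨hP.1, fun Q hQ => hP.2 Q ?_⟩ α hα' hk
  obtain ⟨φ, hφ, hr⟩ := hQ
  exact ⟨φ, hR.2.1.1 P hφ, hr⟩

/-- The first residual step lies in every normal subsystem containing the hyperfocal subgroup. -/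
theorem residual_le [Fact p.Prime] [Finite S] (hS : IsPGroup p S) (hF : F.IsSaturated p)
    {M : FusionSystem U} (hM : M.IsNormalIn F p) (hU : F.hyperfocalSubgroup p ≤ U)
    {D D' : FusionSystem (F.hyperfocalSubgroup p)} (hD : F.IsPResidual p D)
    (hD' : D.IsPPrimeResidual p D') : D'.IsSubsystemOf M := by
  have hHS := hyperfocalSubgroup_le_self F p
  haveI : Finite (F.hyperfocalSubgroup p) := finite_of_le hHS
  have hDn := isNormalIn_pResidual hS hF hD
  have hW := (Wedge.isWeaklyNormalIn_wedge_sub hS hDn hM).1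
  have h := pPrimeResidual_le_of_eq (hS.to_le hHS) hD' (inf_eq_left.2 hU) hW
  exact fun P φ hφ => Wedge.wedgeSystem_le_right P (h P hφ)

/-- The first residual step is normal in every saturated system containing it. -/
theorem isNormalIn_residual [Fact p.Prime] [Finite S] (hS : IsPGroup p S) (hF : F.IsSaturated p)
    {D D' : FusionSystem (F.hyperfocalSubgroup p)} (hD : F.IsPResidual p D)
    (hD' : D.IsPPrimeResidual p D') {N : FusionSystem U} (hN : N.IsSaturated p)
    (hNF : N.IsSubsystemOf F) (hsub : D'.IsSubsystemOf N) : D'.IsNormalIn N p := by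
  have hHS := hyperfocalSubgroup_le_self F p
  haveI : Finite (F.hyperfocalSubgroup p) := finite_of_le hHS
  have hHp := hS.to_le hHS
  have hUS := le_of_subsystem hNF
  haveI : Finite U := finite_of_le hUS
  have h1 : D'.IsNormalIn F p := by
    rw [eq_pPrimeResidualSystem hHp hD.1 hD']
    exact isNormalIn_pPrimeResidualSystem hS (isNormalIn_pResidual hS hF hD).1
  have h2 := isNormalIn_pPrimeResidualSystem (hS.to_le hUS)
    (isWeaklyNormalIn_sub hS h1.1 hN hNF hsub)
  rwa [pPrimeResidualSystem_idem hHp hD.1 hD'] at h2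

theorem limit_le {L : FusionSystem T} (h : L.IsResidualLimitOf F p) : L.IsSubsystemOf F := by
  induction h with
  | stable => exact fun _ _ h => h
  | step F p D D' hD hD' _ ih => exact fun P φ hφ => hD.2.1 P (hD'.2.1.1 P (ih P hφ))

/-- A residual limit of a system is a residual limit of every normal subsystem over a subgroup
containing the hyperfocal subgroup. -/
theorem limit_transfer {L : FusionSystem T} (h : L.IsResidualLimitOf F p) :
    ∀ {U : Subgroup Ω} (N : FusionSystem U) [Fact p.Prime] [Finite S], IsPGroup p S →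
      F.IsSaturated p → N.IsNormalIn F p → F.hyperfocalSubgroup p ≤ U →
        L.IsResidualLimitOf N p := by
  induction h with
  | @stable F p hyp hres =>
    intro U N _ _ hS hF hN hU
    obtain rfl : U = T := le_antisymm (le_of_subsystem hN.1.2.2.1) (hyp.symm.le.trans hU)
    obtain rfl : N = F := fusionSystem_eq_of_le hN.1.2.2.1
      (pPrimeResidual_subsystem_of_isWeaklyNormalIn hS hres hN.1)
    exact .stable N p hyp hres
  | @step S L F p D D' hD hD' _ ih =>
    intro U N _ _ hS hF hN hU
    have hHS := hyperfocalSubgroup_le_self F p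
    haveI : Finite (F.hyperfocalSubgroup p) := finite_of_le hHS
    have hHp := hS.to_le hHS
    have hUS := le_of_subsystem hN.1.2.2.1
    haveI : Finite U := finite_of_le hUS
    have hUp := hS.to_le hUS
    have hHN : N.hyperfocalSubgroup p ≤ U := hyperfocalSubgroup_le_self N p
    haveI : Finite (N.hyperfocalSubgroup p) := finite_of_le hHN
    have hHNp := hUp.to_le hHN
    obtain ⟨DN, hDNs, hDNi, -⟩ := exists_pPowerIndex hUp hN.1.1 hHN le_rfl
    have hDN : N.IsPResidual p DN := ⟨hDNs, hDNi⟩
    have hR := isPPrimeResidual_pPrimeResidualSystem hHNp hDNs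
    have hsub : D'.IsSubsystemOf N := residual_le hS hF hN hU hD hD'
    have hD'N : D'.IsNormalIn N p := isNormalIn_residual hS hF hD hD' hN.1.1 hN.1.2.2.1 hsub
    have hsub2 : (pPrimeResidualSystem DN p).IsSubsystemOf D' :=
      residual_le hUp hN.1.1 hD'N (hyperfocal_mono hN.1.2.2.1) hDN hR
    have hnorm := isNormalIn_residual hUp hN.1.1 hDN hR hD'.1 hsub hsub2
    exact .step N p DN _ hDN hR (ih _ hHp hD'.1 hnorm (hyperfocal_mono hsub))

end Cfsg.Agent.Lib.Fusion.ResLimit
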