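/-
The two kinds of steps of a chain of subsystems above a normal subsystem.
-/
import Cfsg.Agent.Lib.Fusion.ResLimit.Transfer
import Cfsg.Agent.Lib.Fusion.CharacterSubsystem
import Cfsg.Agent.Lib.Fusion.CentralizerSystemNormal
import Cfsg.Agent.S5198
import Cfsg.Agent.S5199

set_option autoImplicit false

namespace Cfsg.Agent.Lib.Fusion.ResLimit

open Cfsg Cfsg.FusionSystem
open Cfsg.Agent.Lib.Fusion.CharacterSubsystem

universe u

variable {Ω : Type u} [Group Ω] {S T U V : Subgroup Ω} {F : FusionSystem S} {p : ℕ}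

/-- An automorphism of a subgroup restricts to a strongly closed subgroup inside it. -/
theorem exists_res [Finite S] (hT : F.StronglyClosed T) (hTU : T ≤ U) (hUS : U ≤ S)
    {a : MulAut U} (ha : a ∈ F.autGroup U) :
    ∃ b ∈ F.autGroup T, ∀ t : T, (b t : Ω) = (a ⟨t, hTU t.2⟩ : Ω) := by
  haveI : Finite T := finite_of_le hT.1
  obtain ⟨b, hb, hbx⟩ := exists_aut_of_hom (restrict_mem (autGroup_hom_mem hUS ha) hTU)
    (fun t => hT.2 T le_rfl _ (restrict_mem (autGroup_hom_mem hUS ha) hTU) t)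
  exact ⟨b, hb, fun t => hbx t⟩

/-- Weak normality passes upwards when the automorphisms of the middle group preserve the lower
system. -/
theorem isWeaklyNormalIn_trans [Fact p.Prime] [Finite S] (hS : IsPGroup p S)
    {E : FusionSystem U} {D : FusionSystem V} (hE : E.IsWeaklyNormalIn F p)
    (hD : D.IsWeaklyNormalIn E p)
    (H : ∀ a ∈ F.autGroup U, ∀ (Q : Subgroup Ω) (hQ : Q ≤ U) (ψ : Q →* Ω) (_ : ψ ∈ D.Hom Q)
      (hψ : ∀ x : Q, ψ x ∈ U), ∃ χ ∈ D.Hom (imgSub (autHom a) Q), ∀ x : Q,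
        χ ⟨_, imgSub_act_mem hQ x⟩ = (a ⟨ψ x, hψ x⟩ : Ω)) :
    D.IsWeaklyNormalIn F p := by
  have hUS : U ≤ S := hE.2.2.2.1.1
  have hVU : V ≤ U := hD.2.2.2.1.1
  haveI : Finite U := finite_of_le hUS
  have hDF : D.IsSubsystemOf F := fun P φ hφ => hE.2.2.1 P (hD.2.2.1 P hφ)
  have hclosed : F.StronglyClosed V := by
    refine ⟨hVU.trans hUS, fun R hR φ hφ x => ?_⟩
    obtain ⟨a, ha, φ₀, hφ₀, hx⟩ := hE.2.2.2.2.2 R (hR.trans hVU) φ hφ
    have h0 : φ₀ x ∈ V := hD.2.2.2.1.2 R hR φ₀ hφ₀ x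
    obtain ⟨χ, hχ, -⟩ := H a ha V hVU V.subtype (subtype_mem le_rfl) fun y => hVU y.2
    rw [hx x (hVU h0)]
    exact src_le hχ (imgSub_act_mem hVU ⟨_, h0⟩)
  have hstr0 := stronglyInvariant_of_isWeaklyNormalIn (hS.to_le hUS) hD
  refine ⟨hD.1, hE.2.1, (Cfsg.Agent.S5119.result p hS F hE.2.1 D hDF hclosed).mpr ?_⟩
  intro P Q hPQ hQV φ hφ hφQ ψ hψ
  obtain ⟨a, ha, ψ₀, hψ₀, hx⟩ := hE.2.2.2.2.2 Q (hQV.trans hVU) ψ hψ
  obtain ⟨χ₀, hχ₀, hχ₀x⟩ := hstr0 P Q hPQ hQV φ hφ hφQ ψ₀ hψ₀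
  have hP₀ : imgSub ψ₀ P ≤ U := (src_le hχ₀).trans hVU
  obtain ⟨χ₁, hχ₁, hχ₁x⟩ := H a ha _ hP₀ χ₀ hχ₀ fun y => hVU (val_mem hχ₀ y)
  have key : ∀ w : Q, ψ w = (a ⟨ψ₀ w, val_mem hψ₀ w⟩ : Ω) := fun w => hx w _
  have hle : imgSub ψ P ≤ imgSub (autHom a) (imgSub ψ₀ P) := by
    intro y hy
    obtain ⟨w, hw, rfl⟩ := mem_imgSub.1 hy
    rw [key]
    exact imgSub_act_mem hP₀ ⟨ψ₀ w, apply_mem_imgSub ψ₀ w hw⟩
  refine ⟨_, restrict_mem hχ₁ hle, fun x hx' => ?_⟩
  have h0 := apply_mem_imgSub ψ₀ (Subgroup.inclusion hPQ x) x.2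
  have e1 : Subgroup.inclusion hle ⟨ψ (Subgroup.inclusion hPQ x), hx'⟩ =
      ⟨_, imgSub_act_mem hP₀ ⟨ψ₀ (Subgroup.inclusion hPQ x), h0⟩⟩ := Subtype.ext (key _)
  show χ₁ (Subgroup.inclusion hle ⟨ψ (Subgroup.inclusion hPQ x), hx'⟩) = _
  rw [e1, hχ₁x, key ⟨φ x, hφQ x⟩]
  exact congrArg (fun z : U => (a z : Ω)) (Subtype.ext (hχ₀x x h0))

/-- A weakly normal subsystem over a self-centralizing subgroup is normal. -/
theorem isNormalIn_of_centralizerIn_le [Fact p.Prime] [Finite S] {G : FusionSystem U}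
    (hG : G.IsWeaklyNormalIn F p) (hC : centralizerIn S U ≤ U) : G.IsNormalIn F p := by
  refine ⟨hG, fun α hα => ?_⟩
  have hUS := hG.2.2.2.1.1
  have hle : U ⊔ centralizerIn S U ≤ U := sup_le le_rfl hC
  haveI : Finite (U ⊔ centralizerIn S U : Subgroup Ω) := finite_of_le (hle.trans hUS)
  have hαG := autGroup_hom_mem le_rfl hα
  obtain ⟨β, hβ, hβx⟩ := exists_aut_of_hom
    (restrict_mem (hG.2.2.1 U hαG) hle) fun x => (le_sup_left : U ≤ _) (α _).2
  refine ⟨β, hβ, fun x => hβx _, fun z hz => ?_⟩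
  rw [hβx]
  refine ⟨U.mul_mem (U.inv_mem (hle z.2)) (α _).2, fun w hw => ?_⟩
  have hz1 : w * (z : Ω)⁻¹ = (z : Ω)⁻¹ * w := Commute.inv_right (hz.2 w hw)
  have hz2 : w * (α ⟨z, hle z.2⟩ : Ω) = (α ⟨z, hle z.2⟩ : Ω) * w := by
    have h := congrArg (fun s : U => (α s : Ω)) (show α⁻¹ ⟨w, hw⟩ * ⟨z, hle z.2⟩ =
      ⟨z, hle z.2⟩ * α⁻¹ ⟨w, hw⟩ from Subtype.ext (hz.2 _ (α⁻¹ ⟨w, hw⟩).2))
    simpa [map_mul, MulAut.apply_inv_self] using h
  show w * ((z : Ω)⁻¹ * (α ⟨z, hle z.2⟩ : Ω)) = (z : Ω)⁻¹ * (α ⟨z, hle z.2⟩ : Ω) * w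
  rw [← mul_assoc, hz1, mul_assoc, hz2, mul_assoc]

/-- A normal subsystem is normal in a saturated system in between that contains the coprime
extensions of its automorphisms of `T`. -/
theorem isNormalIn_sub [Fact p.Prime] [Finite S] (hS : IsPGroup p S) {E : FusionSystem T}
    (hE : E.IsNormalIn F p) {G : FusionSystem U} (hG : G.IsSaturated p)
    (hGF : G.IsSubsystemOf F) (hEG : E.IsSubsystemOf G) (hW : T ⊔ centralizerIn S T ≤ U)
    (hlift : ∀ β ∈ F.autGroup (T ⊔ centralizerIn S T), (orderOf β).Coprime p →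
      (∃ α ∈ E.autGroup T, ∀ x : T, (β (Subgroup.inclusion le_sup_left x) : Ω) = (α x : Ω)) →
      β ∈ G.autGroup (T ⊔ centralizerIn S T)) : E.IsNormalIn G p := by
  have hUS : U ≤ S := le_of_subsystem hGF
  have hTS : T ≤ S := hE.1.2.2.2.1.1
  haveI : Finite U := finite_of_le hUS
  haveI : Finite T := finite_of_le hTS
  refine ⟨isWeaklyNormalIn_sub hS hE.1 hG hGF hEG, ?_⟩
  have hTU : T ≤ U := le_sup_left.trans hW
  have hcen : centralizerIn U T = centralizerIn S T :=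
    le_antisymm (inf_le_inf_right _ hUS) fun x hx => ⟨hW (Subgroup.mem_sup_right hx), hx.2⟩
  suffices key : E.autGroup T ≤ Subgroup.closure (extendableAut G T) by
    haveI := finite_mulAut (S := T) (le_refl T)
    intro α hα
    have h1 := key hα
    rw [← Subgroup.mem_toSubmonoid, Subgroup.closure_toSubmonoid_of_finite] at h1
    show α ∈ extendableAut G T
    clear hα
    induction h1 using Submonoid.closure_induction with
    | mem x hx => exact hx
    | one =>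
      exact ⟨1, one_mem _, fun x => rfl, fun c _ => by
        show (c : Ω)⁻¹ * (c : Ω) ∈ _
        rw [inv_mul_cancel]; exact one_mem _⟩
    | mul x y _ _ hx hy => exact extendableAut_mul hTU hx hy
  have hTp : IsPGroup p T := hS.to_le hTS
  refine (autGroup_le_pResidual_sup hTp hE.1.1 (isFullyNormalized_top E)).trans (sup_le ?_ ?_)
  · rintro _ ⟨⟨a, ha⟩, har, rfl⟩
    refine (Subgroup.closure_le
      ((Subgroup.closure (extendableAut G T)).comap (E.autGroup T).subtype)).2 ?_ har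
    intro b hb
    refine Subgroup.subset_closure ?_
    obtain ⟨β, hβ, hβx, hβc⟩ := hE.2 b b.2
    have hWS : T ⊔ centralizerIn S T ≤ S := sup_le hTS inf_le_left
    haveI := finite_mulAut (S := S) hWS
    have hpow : ∀ n : ℕ, (∀ x : T, ((β ^ n) (Subgroup.inclusion le_sup_left x) : Ω) =
        (((b : MulAut T) ^ n) x : Ω)) ∧
        ∀ c : ↥(T ⊔ centralizerIn S T), (c : Ω) ∈ centralizerIn S T →
          (c : Ω)⁻¹ * ((β ^ n) c : Ω) ∈ T ⊓ Subgroup.centralizer (T : Set Ω) := by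
      intro n
      induction n with
      | zero =>
        exact ⟨fun x => rfl, fun c _ => by
          show (c : Ω)⁻¹ * (c : Ω) ∈ _
          rw [inv_mul_cancel]; exact one_mem _⟩
      | succ n ih =>
        refine ⟨fun x => ?_, fun c hc => ?_⟩
        · rw [pow_succ', pow_succ', MulAut.mul_apply, MulAut.mul_apply,
            show (β ^ n) (Subgroup.inclusion le_sup_left x) =
              Subgroup.inclusion le_sup_left (((b : MulAut T) ^ n) x) from Subtype.ext (ih.1 x)]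
          exact hβx _
        · have h1 := ih.2 c hc
          have hc1 : ((β ^ n) c : Ω) ∈ centralizerIn S T := by
            have := mul_mem hc (⟨hTS h1.1, h1.2⟩ : _ ∈ centralizerIn S T)
            rwa [mul_inv_cancel_left] at this
          have h2 := hβc _ hc1
          have h3 := mul_mem h1 h2
          rw [pow_succ', MulAut.mul_apply]
          rwa [mul_assoc, mul_inv_cancel_left] at h3
    obtain ⟨k, hk⟩ := Transfer.exists_pow_coprime (p := p) β
    have hco : (orderOf (b : MulAut T)).Coprime (p ^ k) := by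
      refine Nat.Coprime.pow_right k ?_
      rw [Subgroup.orderOf_coe]; exact hb
    obtain ⟨m, hm⟩ := exists_pow_eq_self_of_coprime hco.symm
    have hres : ∀ x : T, (((β ^ p ^ k) ^ m) (Subgroup.inclusion le_sup_left x) : Ω) =
        ((b : MulAut T) x : Ω) := fun x => by
      rw [← pow_mul, (hpow _).1, pow_mul, hm]
    have hβG : (β ^ p ^ k) ^ m ∈ G.autGroup (T ⊔ centralizerIn S T) := by
      refine hlift _ (Subgroup.pow_mem _ (Subgroup.pow_mem _ hβ _) _)
        (Nat.Coprime.coprime_dvd_left (orderOf_pow_dvd m) hk) ⟨b, b.2, hres⟩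
    have mk : ∀ C : Subgroup Ω, C = centralizerIn U T → ∀ γ ∈ G.autGroup (T ⊔ C),
        (∀ x : T, (γ (Subgroup.inclusion le_sup_left x) : Ω) = ((b : MulAut T) x : Ω)) →
        (∀ c : ↥(T ⊔ C), (c : Ω) ∈ C →
          (c : Ω)⁻¹ * (γ c : Ω) ∈ T ⊓ Subgroup.centralizer (T : Set Ω)) →
        (b : MulAut T) ∈ extendableAut G T := by
      rintro C rfl γ h1 h2 h3
      exact ⟨γ, h1, h2, h3⟩
    exact mk _ hcen.symm _ hβG hres fun c hc => by rw [← pow_mul]; exact (hpow _).2 c hc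
  · rintro a ha
    refine Subgroup.subset_closure ?_
    obtain ⟨t, ht, htx⟩ := mem_autInducedBy.1 ha
    have hn : t ∈ Subgroup.normalizer ((T ⊔ centralizerIn U T : Subgroup Ω) : Set Ω) :=
      Subgroup.le_normalizer (Subgroup.mem_sup_left ht)
    have hWU : T ⊔ centralizerIn U T ≤ U := sup_le hTU inf_le_left
    refine ⟨conjAut _ t hn, autInducedBy_le_autGroup hWU
      (mem_autInducedBy.2 ⟨t, hTU ht, fun _ => rfl⟩), fun x => (htx x).symm, fun c hc => ?_⟩
    show (c : Ω)⁻¹ * (t * (c : Ω) * t⁻¹) ∈ _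
    have hct : t * (c : Ω) = (c : Ω) * t := hc.2 t ht
    rw [hct, mul_assoc, mul_inv_cancel, mul_one, inv_mul_cancel]
    exact one_mem _

section Step

variable {E : FusionSystem T} {G : FusionSystem U} {K : Subgroup (MulAut T)}

/-- The step of `p`-power index. -/
theorem exists_pStep [Fact p.Prime] [Finite S] (hS : IsPGroup p S) (hE : E.IsNormalIn F p)
    (hGw : G.IsWeaklyNormalIn F p) (hEG : E.IsNormalIn G p)
    (hW : T ⊔ centralizerIn S T ≤ U) (hK : K ≤ G.autGroup T)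
    (hconj : ∀ g ∈ F.autGroup T, ∀ k ∈ K, g * k * g⁻¹ ∈ K) (hEK : E.autGroup T ≤ K)
    (hco : ∀ g ∈ G.autGroup T, (orderOf g).Coprime p → g ∈ K) :
    ∃ (V : Subgroup Ω) (G₁ : FusionSystem V), G₁.IsWeaklyNormalIn F p ∧ G₁.IsNormalIn G p ∧
      E.IsNormalIn G₁ p ∧ T ⊔ centralizerIn S T ≤ V ∧ G.hyperfocalSubgroup p ≤ V ∧
      G₁.autGroup T ≤ K := by
  have hTU : T ≤ U := le_sup_left.trans hW
  have hGF := hGw.2.2.1
  have hUS : U ≤ S := hGw.2.2.2.1.1
  haveI : Finite U := finite_of_le hUS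
  haveI : Finite T := finite_of_le (hTU.trans hUS)
  haveI := finite_mulAut (S := U) hTU
  have hUp := hS.to_le hUS
  have hTcG := hEG.1.2.2.2.1
  have hTcF := hE.1.2.2.2.1
  have hn : U ≤ Subgroup.normalizer (T : Set Ω) := stronglyClosed_le_normalizer hTcG
  let V : Subgroup Ω :=
    { carrier := {u | u ∈ U ∧ ∃ k ∈ K, ∀ t : T, (k t : Ω) = u * (t : Ω) * u⁻¹}
      one_mem' := ⟨one_mem _, 1, one_mem _, fun t => by simp⟩
      mul_mem' := by
        rintro u v ⟨hu, k, hk, hkx⟩ ⟨hv, l, hl, hlx⟩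
        refine ⟨mul_mem hu hv, k * l, mul_mem hk hl, fun t => ?_⟩
        rw [MulAut.mul_apply, hkx, hlx]
        group
      inv_mem' := by
        rintro u ⟨hu, k, hk, hkx⟩
        refine ⟨inv_mem hu, k⁻¹, inv_mem hk, fun t => ?_⟩
        have h := hkx (k⁻¹ t)
        rw [MulAut.apply_inv_self] at h
        rw [h]
        group }
  have hVU : V ≤ U := fun u hu => hu.1
  haveI : Finite V := finite_of_le (hVU.trans hUS)
  have hVp := hUp.to_le hVU
  have hTT : autInducedBy T T ≤ K :=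
    (autInducedBy_le_autGroup (F := E) le_rfl).trans hEK
  have hWV : T ⊔ centralizerIn S T ≤ V := by
    refine sup_le (fun t ht => ?_) (fun c hc => ?_)
    · refine ⟨hTU ht, conjAut T t (Subgroup.le_normalizer ht),
        hTT (mem_autInducedBy.2 ⟨t, ht, fun _ => rfl⟩), fun _ => rfl⟩
    · refine ⟨hW (Subgroup.mem_sup_right hc), 1, one_mem _, fun t => ?_⟩
      have h := hc.2 (t : Ω) t.2
      rw [MulAut.one_apply, ← h, mul_assoc, mul_inv_cancel, mul_one]
  have hhyp : G.hyperfocalSubgroup p ≤ V := by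
    intro x hx
    obtain ⟨α, hα, hαx⟩ := Cfsg.Agent.S5198.result p hUp G hGw.1 T hTcG x hx
    refine ⟨hyperfocalSubgroup_le_self G p hx, α, ?_, hαx⟩
    refine sup_le (?_ : _ ≤ K) ?_ hα
    · rintro _ ⟨⟨g, hg⟩, hgr, rfl⟩
      refine (Subgroup.closure_le (K.comap (G.autGroup T).subtype)).2 ?_ hgr
      intro b hb
      exact hco b b.2 (by rw [Subgroup.orderOf_coe]; exact hb)
    · rintro _ ⟨t, rfl⟩
      exact hTT (mem_autInducedBy.2 ⟨t, t.2, fun _ => rfl⟩)
  have hnorm : (V.subgroupOf U).Normal := ⟨fun v hv g => by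
    obtain ⟨-, k, hk, hkx⟩ := Subgroup.mem_subgroupOf.1 hv
    refine Subgroup.mem_subgroupOf.2 ⟨(g * v * g⁻¹ : U).2,
      conjAut T g (hn g.2) * k * (conjAut T g (hn g.2))⁻¹,
      hconj _ (autGroup_mono hGF T (autInducedBy_le_autGroup hTU
        (mem_autInducedBy.2 ⟨g, g.2, fun _ => rfl⟩))) k hk, fun t => ?_⟩
    set w := (conjAut T (g : Ω) (hn g.2))⁻¹ t with hw
    have e : (t : Ω) = g * (w : Ω) * (g : Ω)⁻¹ :=
      (congrArg Subtype.val (MulAut.apply_inv_self _ (conjAut T (g : Ω) (hn g.2)) t)).symm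
    rw [MulAut.mul_apply, MulAut.mul_apply, ← hw]
    show (g : Ω) * (k w : Ω) * (g : Ω)⁻¹ = ((g : Ω) * v * (g : Ω)⁻¹) * t * _⁻¹
    rw [hkx, e]
    simp only [Subgroup.coe_mul, Subgroup.coe_inv]
    group⟩
  obtain ⟨G₁, hs, hi, -⟩ := exists_pPowerIndex hUp hGw.1 hVU hhyp
  have hn₁ : G₁.IsNormalIn G p := isNormalIn_of_hasPPowerIndexIn hUp hGw.1 hVU hnorm hs hi
  have hEG₁ : E.IsSubsystemOf G₁ :=
    Cfsg.Agent.S5199.result p hUp G hGw.1 E hEG G₁ hn₁
      (sup_le (le_sup_left.trans hWV) hhyp) hi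
  have hG₁F : G₁.IsSubsystemOf F := fun P φ h => hGF P (hi.1 P h)
  refine ⟨V, G₁, ?_, hn₁, ?_, hWV, hhyp, ?_⟩
  · refine isWeaklyNormalIn_trans hS hGw hn₁.1 fun a ha Q hQ ψ hψ hψU => ?_
    obtain ⟨b, hb, hbx⟩ := exists_res hTcF hTU hUS ha
    have haV : ∀ v : V, (a ⟨v, hVU v.2⟩ : Ω) ∈ V := by
      rintro ⟨v, hv, k, hk, hkx⟩
      refine ⟨(a _).2, b * k * b⁻¹, hconj b hb k hk, fun t => ?_⟩
      rw [MulAut.mul_apply, MulAut.mul_apply, hbx]
      have e1 : (t : Ω) = (a ⟨b⁻¹ t, hTU (b⁻¹ t).2⟩ : Ω) := by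
        rw [← hbx, MulAut.apply_inv_self]
      have e2 : (⟨k (b⁻¹ t), hTU (k (b⁻¹ t)).2⟩ : U) =
          ⟨v, hv⟩ * ⟨b⁻¹ t, hTU (b⁻¹ t).2⟩ * ⟨v, hv⟩⁻¹ := Subtype.ext (hkx _)
      rw [e2, map_mul, map_mul, map_inv]
      conv_rhs => rw [e1]
      rfl
    obtain ⟨a', ha', hax⟩ := exists_aut_of_hom (restrict_mem (autGroup_hom_mem hUS ha) hVU)
      fun v => haV v
    have hstr := stronglyInvariant_of_isWeaklyNormalIn hS hGw
    obtain ⟨χ, hχ, hχx⟩ := exists_act_of_transport (a := a') hVp hs hi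
      (fun Q hQV b hb R e he => Wedge.congr_mem_autGroup_of_stronglyInvariant hstr e
        (mem_congr (restrict_mem (autGroup_hom_mem hUS ha) (hQV.trans hVU)) fun x =>
          ((he x).trans (hax _))) (hQV.trans hVU) hb) hψ
    have hle : imgSub (autHom a) Q ≤ imgSub (autHom a') Q := by
      intro y hy
      obtain ⟨x, hxU, rfl⟩ := exists_of_mem_imgSub_act hy
      have h := imgSub_act_mem (a := a') (src_le hψ) x
      rwa [hax] at h
    refine ⟨_, restrict_mem hχ hle, fun x => ?_⟩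
    refine Eq.trans ?_ ((hχx x).trans (hax _))
    exact congrArg χ (Subtype.ext (hax ⟨x, src_le hψ x.2⟩).symm)
  · have hWV' : T ⊔ centralizerIn U T ≤ V :=
      (sup_le_sup_left (inf_le_inf_right _ hUS) T).trans hWV
    refine isNormalIn_sub hUp hEG hs hi.1 hEG₁ hWV' fun β hβ hβco _ => ?_
    exact hi.2.2 _ hWV' (Transfer.mem_map_pResidual_of_coprime hβ hβco)
  · refine (autGroup_le_pResidual_sup hVp hs ?_).trans (sup_le ?_ ?_)
    · refine ⟨le_sup_left.trans hWV, fun R hR => ?_⟩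
      obtain ⟨φ, hφ, rfl⟩ := hR
      rw [range_eq_self hφ fun x => hTcG.2 T le_rfl φ (hi.1 T hφ) x]
    · refine (map_pResidual_autGroup_mono hi.1 T).trans ?_
      rintro _ ⟨⟨g, hg⟩, hgr, rfl⟩
      refine (Subgroup.closure_le (K.comap (G.autGroup T).subtype)).2 ?_ hgr
      intro b hb
      exact hco b b.2 (by rw [Subgroup.orderOf_coe]; exact hb)
    · intro g hg
      obtain ⟨v, ⟨-, k, hk, hkx⟩, hgx⟩ := mem_autInducedBy.1 hg
      rwa [show g = k from MulEquiv.ext fun t => Subtype.ext ((hgx t).trans (hkx t).symm)]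

/-- The step of index prime to `p`. -/
theorem exists_pPrimeStep [Fact p.Prime] [Finite S] (hS : IsPGroup p S) (hE : E.IsNormalIn F p)
    (hGw : G.IsWeaklyNormalIn F p) (hEG : E.IsNormalIn G p)
    (hW : T ⊔ centralizerIn S T ≤ U) (hK : K ≤ G.autGroup T)
    (hconj : ∀ g ∈ F.autGroup T, ∀ k ∈ K, g * k * g⁻¹ ∈ K) (hEK : E.autGroup T ≤ K)
    (hp : ∀ g ∈ G.autGroup T, (∃ k, g ^ p ^ k = 1) → g ∈ K) :
    ∃ (V : Subgroup Ω) (G₁ : FusionSystem V), G₁.IsWeaklyNormalIn F p ∧ G₁.IsNormalIn G p ∧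
      E.IsNormalIn G₁ p ∧ T ⊔ centralizerIn S T ≤ V ∧ G.hyperfocalSubgroup p ≤ V ∧
      G₁.autGroup T ≤ K := by
  have hTU : T ≤ U := le_sup_left.trans hW
  have hGF := hGw.2.2.1
  have hUS : U ≤ S := hGw.2.2.2.1.1
  haveI : Finite U := finite_of_le hUS
  haveI : Finite T := finite_of_le (hTU.trans hUS)
  haveI := finite_mulAut (S := U) hTU
  have hUp := hS.to_le hUS
  have hTcG := hEG.1.2.2.2.1
  have hTcF := hE.1.2.2.2.1
  have c : CharData G E K p := by
    refine ⟨hUp, hGw.1, hEG.1, actInvariant_of_stronglyInvariant hTU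
      (stronglyInvariant_of_isWeaklyNormalIn hUp hEG.1), hK,
      fun g hg k hk => hconj g (autGroup_mono hGF T hg) k hk, hEK, fun g hg => ?_⟩
    obtain ⟨k, hk⟩ := isPGroup_autInducedBy (p := p) hUp ⟨g, hg⟩
    exact hp g (autInducedBy_le_autGroup hTU hg) ⟨k, congrArg Subtype.val hk⟩
  have hgn := isNormalIn_genSystem c
  refine ⟨U, genSystem c, ?_, hgn, ?_, hW, hyperfocalSubgroup_le_self G p, ?_⟩
  · refine isWeaklyNormalIn_trans hS hGw hgn.1 fun a ha Q hQ ψ hψ hψU => ?_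
    obtain ⟨b, hb, hbx⟩ := exists_res hTcF hTU hUS ha
    have hsat := isSaturated_genSystem c
    have hpA : HasPAut (pAutSystem G p) (genSystem c) p := fun P hP α hα hk =>
      hasPAut_pAutSystem G p P
        (isCentric_of_hasPAut hUp hGw.1 (hasPAut_genSystem c) hP) α
        (autGroup_mono (genSystem_le c) P hα) hk
    obtain ⟨c', hc', φ₀, hφ₀, hx⟩ := exists_decomp hUp hsat hpA hψ
    obtain ⟨χ, hχ, hχx⟩ := actInvariant_pAutSystem hUS hGw.2.2
      (actInvariant_of_stronglyInvariant hUS (stronglyInvariant_of_isWeaklyNormalIn hS hGw))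
      a ha Q φ₀ hφ₀
    obtain ⟨hc'G, k, hk, hkx⟩ := (mem_autGroup_genSystem c).1 hc'
    have hd : a * c' * a⁻¹ ∈ (genSystem c).autGroup U := by
      refine (mem_autGroup_genSystem c).2 ⟨conj_mem_autGroup_of_invariant hGw.2.2 le_rfl ha hc'G,
        b * k * b⁻¹, hconj b hb k hk, fun t => ?_⟩
      have e1 : a⁻¹ ⟨t, hTU t.2⟩ = ⟨b⁻¹ t, hTU (b⁻¹ t).2⟩ := by
        have e : a ⟨b⁻¹ t, hTU (b⁻¹ t).2⟩ = ⟨t, hTU t.2⟩ := Subtype.ext (by
          rw [← hbx, MulAut.apply_inv_self])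
        rw [← e, MulAut.inv_apply_self]
      rw [MulAut.mul_apply, MulAut.mul_apply, MulAut.mul_apply, MulAut.mul_apply, hbx, e1]
      exact congrArg (fun z : U => (a z : Ω)) (Subtype.ext (hkx _))
    have hχG : χ ∈ (genSystem c).Hom (imgSub (autHom a) Q) := hχ.2 _ (hasPAut_genSystem c)
    obtain ⟨θ, hθ, hθx⟩ := exists_comp hχG (autGroup_hom_mem le_rfl hd) (val_mem hχG)
    refine ⟨θ, hθ, fun x => ?_⟩
    rw [hθx, autHom_apply, MulAut.mul_apply, MulAut.mul_apply]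
    refine congrArg (fun z : U => (a z : Ω)) ?_
    rw [show (⟨χ ⟨_, imgSub_act_mem hQ x⟩, val_mem hχG _⟩ : U) =
      a ⟨φ₀ x, val_mem hφ₀ x⟩ from Subtype.ext (hχx x), MulAut.inv_apply_self]
    exact Subtype.ext (hx x _).symm
  · have hWU : T ⊔ centralizerIn U T ≤ U := sup_le hTU inf_le_left
    refine isNormalIn_sub hUp hEG (isSaturated_genSystem c) (genSystem_le c)
      (subsystem_genSystem c) hWU fun β hβ _ hβα => ?_
    obtain ⟨α, hα, hαx⟩ := hβα
    have hTT : TCentric G T T := ⟨le_rfl, fun φ hφ hr => by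
      rw [range_eq_self hφ fun x => hr ⟨x, rfl⟩]
      exact inf_le_left⟩
    have hcen : ∀ Q : Subgroup Ω, G.IsConj (T ⊔ centralizerIn U T) Q →
        centralizerIn U Q ≤ Q := by
      rintro Q ⟨φ, hφ, rfl⟩
      haveI : Finite (T ⊔ centralizerIn U T : Subgroup Ω) := finite_of_le hWU
      have hT' : T ≤ φ.range := by
        intro t ht
        have h1 : (φ.comp (Subgroup.inclusion (le_sup_left : T ≤ _))).range = T :=
          range_eq_self (restrict_mem hφ le_sup_left)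
            fun x => hTcG.2 T le_rfl _ (restrict_mem hφ le_sup_left) x
        obtain ⟨x, hx⟩ := h1.ge ht
        exact ⟨_, hx⟩
      have hC' : centralizerIn U φ.range ≤ centralizerIn U T := fun y hy =>
        ⟨hy.1, fun t ht => hy.2 t (hT' ht)⟩
      have hin : ∀ z, φ z ∈ T ⊔ centralizerIn U T := hom_sup_mem _
        (fun z => Subgroup.mem_sup_left
          (hTcG.2 T le_rfl _ (restrict_mem hφ le_sup_left) z))
        (fun z => Subgroup.mem_sup_right ⟨val_mem hφ _, fun t ht => by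
          obtain ⟨w, hw⟩ := hT' ht
          obtain ⟨x, hxw⟩ : ∃ x : T, φ (Subgroup.inclusion le_sup_left x) = t := by
            have h1 : (φ.comp (Subgroup.inclusion (le_sup_left : T ≤ _))).range = T :=
              range_eq_self (restrict_mem hφ le_sup_left)
                fun x => hTcG.2 T le_rfl _ (restrict_mem hφ le_sup_left) x
            exact h1.ge ht
          rw [← hxw, ← map_mul, ← map_mul]
          exact congrArg φ (Subtype.ext (z.2.2 x x.2))⟩)
      rw [range_eq_self hφ hin] at hC' ⊢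
      exact hC'.trans le_sup_right
    have hfam : InFam G T (T ⊔ centralizerIn U T) :=
      ⟨⟨hWU, hcen⟩, by rwa [inf_eq_right.2 le_sup_left]⟩
    refine (mem_autGroup hWU).2 (mem_genSystem c hfam (mem_charSystem_of_decomp c
      (autGroup_hom_mem hWU hβ) (one_mem K)
      (restrict_mem (autGroup_hom_mem le_rfl hα) inf_le_right) fun x hx => ?_))
    exact hαx ⟨x, x.2.2⟩
  · intro α hα
    obtain ⟨-, -, -, k, hk, φ₀, hφ₀, hx⟩ := (autGroup_hom_mem hTU hα).1.2
    have hTT' : T ≤ T ⊓ T := le_inf le_rfl le_rfl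
    obtain ⟨e, he, hex⟩ := exists_aut_of_hom (restrict_mem hφ₀ hTT') fun t => val_mem hφ₀ _
    have : α = k * e := MulEquiv.ext fun t => Subtype.ext (by
      rw [MulAut.mul_apply]
      refine (hx (Subgroup.inclusion hTT' t) (val_mem hφ₀ _)).trans ?_
      exact congrArg (fun z : T => (k z : Ω)) (Subtype.ext (hex t).symm))
    rw [this]
    exact mul_mem hk (hEK he)

end Step

end Cfsg.Agent.Lib.Fusion.ResLimit
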