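/-
The chain of subsystems above a normal subsystem with `p`-soluble outer automizer.
-/
import Cfsg.Agent.Lib.Fusion.ResLimit.Steps
import Cfsg.Agent.Lib.Fusion.Terminating
import Cfsg.Agent.Lib.PSolvable.PSolv

set_option autoImplicit false

namespace Cfsg.Agent.Lib.Fusion.ResLimit

open Cfsg Cfsg.FusionSystem

universe u

variable {Ω : Type u} [Group Ω] {S T U : Subgroup Ω} {F : FusionSystem S} {E : FusionSystem T}
  {p : ℕ}

theorem map_conj_sup_closure {M : Type*} [Group M] {B : Subgroup M} {s : Set M} {g : M}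
    (hB : ∀ x ∈ B, g * x * g⁻¹ ∈ B) (hs : ∀ x ∈ s, g * x * g⁻¹ ∈ s) {k : M}
    (hk : k ∈ B ⊔ Subgroup.closure s) : g * k * g⁻¹ ∈ B ⊔ Subgroup.closure s := by
  have h : (B ⊔ Subgroup.closure s).map (MulAut.conj g).toMonoidHom ≤
      B ⊔ Subgroup.closure s := by
    rw [Subgroup.map_sup, MonoidHom.map_closure]
    refine sup_le_sup ?_ ((Subgroup.closure_le _).2 ?_)
    · rintro _ ⟨x, hx, rfl⟩; exact hB x hx
    · rintro _ ⟨x, hx, rfl⟩; exact Subgroup.subset_closure (hs x hx)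
  exact h ⟨k, hk, rfl⟩

/-- Above `Aut_E(T)` there is a proper subgroup of `A` containing its elements of order prime to
`p`, or one containing its elements of `p`-power order. -/
theorem closure_lt {M : Type*} [Group M] [Fact p.Prime] {A B A₀ : Subgroup M} [Finite M]
    (hBA : B ≤ A) (hAA : A ≤ A₀) [hn : (B.subgroupOf A₀).Normal]
    (hsolv : IsPSolvable p (↥A₀ ⧸ B.subgroupOf A₀)) (hne : A ≠ B) :
    ¬ (A ≤ B ⊔ Subgroup.closure {x | x ∈ A ∧ (orderOf x).Coprime p} ∧
      A ≤ B ⊔ Subgroup.closure {x | x ∈ A ∧ ∃ k, x ^ p ^ k = 1}) := by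
  rintro ⟨h1, h2⟩
  have hn' : (B.subgroupOf A).Normal := ⟨fun x hx g => by
    exact Subgroup.mem_subgroupOf.2 (Subgroup.mem_subgroupOf.1
      (hn.conj_mem (Subgroup.inclusion hAA x) hx (Subgroup.inclusion hAA g)))⟩
  let f : ↥A ⧸ B.subgroupOf A →* ↥A₀ ⧸ B.subgroupOf A₀ :=
    QuotientGroup.map _ _ (Subgroup.inclusion hAA) fun x hx => hx
  have hf : Function.Injective f := by
    rw [← MonoidHom.ker_eq_bot_iff, eq_bot_iff]
    intro q hq
    induction q using QuotientGroup.induction_on with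
    | _ x =>
      have hq' : ((Subgroup.inclusion hAA x : A₀) : ↥A₀ ⧸ B.subgroupOf A₀) = 1 := hq
      exact Subgroup.mem_bot.2 ((QuotientGroup.eq_one_iff x).2
        (show x ∈ B.subgroupOf A from
          ((QuotientGroup.eq_one_iff (N := B.subgroupOf A₀) (Subgroup.inclusion hAA x)).1 hq' :)))
  have key : ∀ (L : Subgroup (↥A ⧸ B.subgroupOf A)) (s : Set M), A ≤ B ⊔ Subgroup.closure s →
      (∀ x (hx : x ∈ A), x ∈ s → QuotientGroup.mk' (B.subgroupOf A) ⟨x, hx⟩ ∈ L) →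
      (∀ x ∈ s, x ∈ A) → L = ⊤ := by
    intro L s hA hs hsA
    have hle : B ⊔ Subgroup.closure s ≤
        (L.comap (QuotientGroup.mk' (B.subgroupOf A))).map A.subtype := by
      refine sup_le (fun x hx => ⟨⟨x, hBA hx⟩, ?_, rfl⟩)
        ((Subgroup.closure_le _).2 fun x hx => ⟨⟨x, hsA x hx⟩, hs x _ hx, rfl⟩)
      show QuotientGroup.mk' (B.subgroupOf A) ⟨x, hBA hx⟩ ∈ L
      rw [QuotientGroup.mk'_apply,
        (QuotientGroup.eq_one_iff (N := B.subgroupOf A) (⟨x, hBA hx⟩ : A)).2 hx]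
      exact one_mem L
    refine eq_top_iff.2 fun q _ => ?_
    induction q using QuotientGroup.induction_on with
    | _ x =>
      obtain ⟨y, hy, hyx⟩ := hle (hA x.2)
      rw [Subtype.ext hyx] at hy
      exact hy
  have hb := eq_bot_of_isPSolvable_of_residual (PSolvable.isPSolvable_of_injective hsolv f hf)
    (key _ _ h1 (fun x hx hxs => Transfer.mem_pResidual_of_coprime
      (Nat.Coprime.coprime_dvd_left (orderOf_map_dvd _ (⟨x, hx⟩ : A))
        (by rw [Subgroup.orderOf_mk]; exact hxs.2))) fun x hx => hx.1)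
    (key _ _ h2 (fun x hx hxs => by
      obtain ⟨k, hk⟩ := hxs.2
      refine Subgroup.subset_closure ⟨k, ?_⟩
      rw [← map_pow, show (⟨x, hx⟩ : A) ^ p ^ k = 1 from Subtype.ext hk, map_one])
      fun x hx => hx.1)
  refine hne (le_antisymm (fun x hx => ?_) hBA)
  have hx1 : QuotientGroup.mk' (B.subgroupOf A) ⟨x, hx⟩ ∈
      (⊥ : Subgroup (↥A ⧸ B.subgroupOf A)) := hb ▸ Subgroup.mem_top _
  rw [Subgroup.mem_bot, QuotientGroup.mk'_apply, QuotientGroup.eq_one_iff] at hx1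
  exact hx1

/-- What is kept along the chain. -/
structure Good (F : FusionSystem S) (E : FusionSystem T) (p : ℕ) {U : Subgroup Ω}
    (G : FusionSystem U) : Prop where
  wn : G.IsWeaklyNormalIn F p
  norm : E.IsNormalIn G p
  le : T ⊔ centralizerIn S T ≤ U
  limit : ∀ {V : Subgroup Ω} (L : FusionSystem V),
    L.IsResidualLimitOf F p → L.IsResidualLimitOf G p

theorem exists_good_eq [Fact p.Prime] [Finite S] (hS : IsPGroup p S) (hE : E.IsNormalIn F p)
    [hn : ((E.autGroup T).subgroupOf (F.autGroup T)).Normal]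
    (hsolv : IsPSolvable p (↥(F.autGroup T) ⧸ (E.autGroup T).subgroupOf (F.autGroup T))) :
    ∃ (U : Subgroup Ω) (G : FusionSystem U), Good F E p G ∧ G.autGroup T = E.autGroup T := by
  have hTS : T ≤ S := hE.1.2.2.2.1.1
  haveI : Finite T := finite_of_le hTS
  haveI := finite_mulAut (S := S) hTS
  suffices key : ∀ (n : ℕ) (U : Subgroup Ω) (G : FusionSystem U), Good F E p G →
      Nat.card (G.autGroup T) = n →
      ∃ (U : Subgroup Ω) (G : FusionSystem U), Good F E p G ∧ G.autGroup T = E.autGroup T from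
    key _ S F ⟨isWeaklyNormalIn_self hE.1.2.1, hE, sup_le hTS inf_le_left, fun _ h => h⟩ rfl
  intro n
  induction n using Nat.strong_induction_on with
  | _ n ih =>
    intro U G hG hcard
    have hGF := hG.wn.2.2.1
    have hUS : U ≤ S := hG.wn.2.2.2.1.1
    haveI : Finite U := finite_of_le hUS
    have hTU : T ≤ U := le_sup_left.trans hG.le
    have hBG : E.autGroup T ≤ G.autGroup T := autGroup_mono hG.norm.1.2.2.1 T
    by_cases hEq : G.autGroup T = E.autGroup T
    · exact ⟨U, G, hG, hEq⟩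
    set B := E.autGroup T with hB
    set A := G.autGroup T with hA
    have hBn : ∀ g ∈ F.autGroup T, ∀ x ∈ B, g * x * g⁻¹ ∈ B := fun g hg x hx =>
      conj_mem_autGroup_of_invariant hE.1.2.2 le_rfl hg hx
    have hAn : ∀ g ∈ F.autGroup T, ∀ x ∈ A, g * x * g⁻¹ ∈ A := fun g hg x hx =>
      conj_mem_autGroup_of_invariant hG.wn.2.2 hTU hg hx
    have cont : (∃ (V : Subgroup Ω) (G₁ : FusionSystem V), G₁.IsWeaklyNormalIn F p ∧
        G₁.IsNormalIn G p ∧ E.IsNormalIn G₁ p ∧ T ⊔ centralizerIn S T ≤ V ∧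
        G.hyperfocalSubgroup p ≤ V ∧ ∃ K, G₁.autGroup T ≤ K ∧ K < A) →
        ∃ (U : Subgroup Ω) (G : FusionSystem U), Good F E p G ∧ G.autGroup T = E.autGroup T := by
      rintro ⟨V, G₁, hw, hn₁, hEn, hWV, hhyp, K, hK, hKA⟩
      refine ih (Nat.card (G₁.autGroup T)) ?_ V G₁ ⟨hw, hEn, hWV, fun L hL =>
        limit_transfer (hG.limit L hL) G₁ (hS.to_le hUS) hG.wn.1 hn₁ hhyp⟩ rfl
      rw [← hcard]
      exact (Subgroup.card_le_of_le hK).trans_lt
        (lt_of_le_of_ne (Subgroup.card_le_of_le hKA.le) fun h =>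
          hKA.ne (Subgroup.eq_of_le_of_card_ge hKA.le h.ge))
    have hlt := closure_lt (A := A) (B := B) hBG (autGroup_mono hGF T) hsolv hEq
    rw [not_and_or] at hlt
    have hconjord : ∀ (g x : MulAut T), orderOf (g * x * g⁻¹) = orderOf x := fun g x =>
      (MulAut.conj g).orderOf_eq x
    refine cont ?_
    rcases hlt with hlt | hlt
    · set K := B ⊔ Subgroup.closure {x | x ∈ A ∧ (orderOf x).Coprime p} with hK
      have hKA : K ≤ A := sup_le hBG ((Subgroup.closure_le _).2 fun x hx => hx.1)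
      obtain ⟨V, G₁, h1, h2, h3, h4, h5, h6⟩ := exists_pStep (K := K) hS hE hG.wn hG.norm hG.le
        hKA (fun g hg k hk => map_conj_sup_closure (s := {x | x ∈ A ∧ (orderOf x).Coprime p})
          (hBn g hg)
          (fun x hx => ⟨hAn g hg x hx.1, by rw [hconjord]; exact hx.2⟩) hk) le_sup_left
        fun g hg hco => Subgroup.mem_sup_right (Subgroup.subset_closure ⟨hg, hco⟩)
      exact ⟨V, G₁, h1, h2, h3, h4, h5, K, h6, lt_of_le_of_ne hKA fun h => hlt h.ge⟩
    · set K := B ⊔ Subgroup.closure {x | x ∈ A ∧ ∃ k, x ^ p ^ k = 1} with hK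
      have hKA : K ≤ A := sup_le hBG ((Subgroup.closure_le _).2 fun x hx => hx.1)
      obtain ⟨V, G₁, h1, h2, h3, h4, h5, h6⟩ := exists_pPrimeStep (K := K) hS hE hG.wn hG.norm
        hG.le hKA (fun g hg k hk => map_conj_sup_closure
          (s := {x | x ∈ A ∧ ∃ k, x ^ p ^ k = 1}) (hBn g hg)
          (fun x hx => ⟨hAn g hg x hx.1, by
            obtain ⟨j, hj⟩ := hx.2
            exact ⟨j, by rw [conj_pow, hj, mul_one, mul_inv_cancel]⟩⟩) hk) le_sup_left
        fun g hg hk => Subgroup.mem_sup_right (Subgroup.subset_closure ⟨hg, hk⟩)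
      exact ⟨V, G₁, h1, h2, h3, h4, h5, K, h6, lt_of_le_of_ne hKA fun h => hlt h.ge⟩

/-- The system over `T C_S(T)`. -/
theorem exists_system [Fact p.Prime] [Finite S] (hS : IsPGroup p S) (hE : E.IsNormalIn F p)
    [hn : ((E.autGroup T).subgroupOf (F.autGroup T)).Normal]
    (hsolv : IsPSolvable p (↥(F.autGroup T) ⧸ (E.autGroup T).subgroupOf (F.autGroup T))) :
    ∃ G : FusionSystem (T ⊔ centralizerIn S T), G.IsNormalIn F p ∧ E.IsNormalIn G p ∧
      G.autGroup T = E.autGroup T ∧ ∀ {V : Subgroup Ω} (L : FusionSystem V),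
        L.IsResidualLimitOf F p → L.IsResidualLimitOf G p := by
  obtain ⟨U, G, hG, hAut⟩ := exists_good_eq hS hE hsolv
  have hTS : T ≤ S := hE.1.2.2.2.1.1
  haveI : Finite T := finite_of_le hTS
  haveI := finite_mulAut (S := S) hTS
  have hUS : U ≤ S := hG.wn.2.2.2.1.1
  haveI : Finite U := finite_of_le hUS
  have hTU : T ≤ U := le_sup_left.trans hG.le
  have hn' : U ≤ Subgroup.normalizer (T : Set Ω) :=
    stronglyClosed_le_normalizer hG.norm.1.2.2.2.1
  have hTp : IsPGroup p T := hS.to_le hTS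
  obtain ⟨-, hsyl⟩ := isFullyAutomized_iff.1
    (isFullyAutomized_of_isFullyNormalized hTp hE.1.1 (isFullyNormalized_top E))
  have hle : autInducedBy U T ≤ E.autGroup T := hAut ▸ autInducedBy_le_autGroup hTU
  have heq : autInducedBy T T = autInducedBy U T :=
    Subgroup.eq_of_le_of_card_ge (fun _ ha => autInducedBy_mono hTU ha)
      (hsyl.card_le (isPGroup_autInducedBy (hS.to_le hUS)) hle)
  obtain rfl : U = T ⊔ centralizerIn S T := by
    refine le_antisymm (fun u hu => ?_) hG.le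
    have hmem : conjAut T u (hn' hu) ∈ autInducedBy T T :=
      heq.ge (mem_autInducedBy.2 ⟨u, hu, fun _ => rfl⟩)
    obtain ⟨t, ht, htx⟩ := mem_autInducedBy.1 hmem
    have h2 : t⁻¹ * u ∈ centralizerIn S T := by
      refine ⟨S.mul_mem (S.inv_mem (hTS ht)) (hUS hu), fun x hx => ?_⟩
      have h3 : u * x * u⁻¹ = t * x * t⁻¹ := htx ⟨x, hx⟩
      calc x * (t⁻¹ * u) = t⁻¹ * (t * x * t⁻¹) * u := by group
        _ = t⁻¹ * (u * x * u⁻¹) * u := by rw [h3]
        _ = t⁻¹ * u * x := by group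
    have h4 := Subgroup.mul_mem _ (Subgroup.mem_sup_left ht :
      t ∈ T ⊔ centralizerIn S T) (Subgroup.mem_sup_right h2)
    rwa [mul_inv_cancel_left] at h4
  refine ⟨G, isNormalIn_of_centralizerIn_le hG.wn fun x hx => ?_, hG.norm, hAut, hG.limit⟩
  exact Subgroup.mem_sup_right ⟨hx.1, fun t ht => hx.2 t (hTU ht)⟩

/-- When `C_S(E)` lies in `T`, the maps of the system over `T C_S(T)` move elements inside `T`. -/
theorem hyperfocal_le [Fact p.Prime] [Finite S] (hS : IsPGroup p S) (hE : E.IsNormalIn F p)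
    (hTS : T ≤ S) (hcf : centFix F E p hTS ≤ T)
    {G : FusionSystem (T ⊔ centralizerIn S T)} (hGn : G.IsNormalIn F p) (hEG : E.IsNormalIn G p)
    (hAut : G.autGroup T = E.autGroup T) : G.hyperfocalSubgroup p ≤ T := by
  have hWS : T ⊔ centralizerIn S T ≤ S := sup_le hTS inf_le_left
  haveI : Finite (T ⊔ centralizerIn S T : Subgroup Ω) := finite_of_le hWS
  haveI : Finite T := finite_of_le hTS
  have hWp := hS.to_le hWS
  have hTc := hEG.1.2.2.2.1
  have hn : T ⊔ centralizerIn S T ≤ Subgroup.normalizer (T : Set Ω) :=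
    stronglyClosed_le_normalizer hTc
  refine (Subgroup.closure_le _).2 ?_
  rintro _ ⟨P, α, x, hP, -, rfl⟩
  obtain ⟨ψ, hψ, -, hψx⟩ := exists_map_sup_stronglyClosed hWp hGn.1.1 hTc
    (autGroup_hom_mem hP α.2)
  obtain ⟨b, hb, hbx⟩ := exists_aut_of_hom (restrict_mem hψ (le_sup_right : T ≤ P ⊔ T))
    fun t => hTc.2 T le_rfl _ (restrict_mem hψ le_sup_right) t
  obtain ⟨β, hβ, hβx, hβc⟩ := hE.2 b (hAut.le hb)
  set R := (P ⊔ T) ⊓ centralizerIn S T with hR
  have hRP : R ⊔ T ≤ P ⊔ T := sup_le inf_le_left le_sup_right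
  obtain ⟨θ, hθ, hθx⟩ := exists_comp (restrict_mem (hGn.1.2.2.1 _ hψ) hRP)
    (autGroup_hom_mem hWS (inv_mem hβ)) fun z => val_mem hψ _
  have hθT : ∀ t : T, θ (Subgroup.inclusion le_sup_right t) = (t : Ω) := by
    intro t
    rw [hθx, autHom_apply]
    have e : (⟨ψ.comp (Subgroup.inclusion hRP) (Subgroup.inclusion le_sup_right t), val_mem hψ _⟩ :
        (T ⊔ centralizerIn S T : Subgroup Ω)) = β (Subgroup.inclusion le_sup_left t) := Subtype.ext ((hbx t).symm.trans (hβx t).symm)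
    rw [e, MulAut.inv_apply_self]
    rfl
  have hθC : ∀ r : R, θ (Subgroup.inclusion le_sup_left r) ∈ centralizerIn S T := fun r =>
    ⟨val_mem hθ _, fun t ht => by
      have h0 : θ (Subgroup.inclusion le_sup_right (⟨t, ht⟩ : T)) = t := hθT ⟨t, ht⟩
      calc t * θ (Subgroup.inclusion le_sup_left r)
          = θ (Subgroup.inclusion le_sup_right (⟨t, ht⟩ : T) *
              Subgroup.inclusion le_sup_left r) := by rw [map_mul, h0]
        _ = θ (Subgroup.inclusion le_sup_left r *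
              Subgroup.inclusion le_sup_right (⟨t, ht⟩ : T)) :=
            congrArg θ (Subtype.ext (r.2.2.2 t ht))
        _ = _ := by rw [map_mul, h0]⟩
  have hθ' : θ.comp (Subgroup.inclusion (le_sup_left : R ≤ R ⊔ T)) ∈ F.centralizerHom T R :=
    ⟨restrict_mem hθ le_sup_left, inf_le_right, hθC, θ, hθ, fun y => rfl, hθT⟩
  obtain ⟨t, ht, c, hc, htc⟩ := exists_mul_eq hTS (hP x.2)
  have hcR : c ∈ R := by
    refine ⟨?_, hc⟩
    have h := mul_mem (Subgroup.inv_mem _ (Subgroup.mem_sup_right ht : t ∈ P ⊔ T))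
      (Subgroup.mem_sup_left x.2 : (x : Ω) ∈ P ⊔ T)
    rwa [← htc, inv_mul_cancel_left] at h
  set r : R := ⟨c, hcR⟩ with hr
  have h1 : c⁻¹ * θ (Subgroup.inclusion le_sup_left r) ∈ T :=
    hcf (inv_mul_mem_centFix (hTS := hTS) hS hE hθ' r)
  set w : (T ⊔ centralizerIn S T : Subgroup Ω) := ⟨θ (Subgroup.inclusion le_sup_left r), Subgroup.mem_sup_right (hθC r)⟩ with hw
  have h2 : (w : Ω)⁻¹ * (β w : Ω) ∈ T := (hβc w (hθC r)).1
  have h3 : (β w : Ω) = ψ (Subgroup.inclusion (le_sup_left.trans hRP) r) := by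
    have e : w = β⁻¹ ⟨ψ (Subgroup.inclusion (le_sup_left.trans hRP) r), val_mem hψ _⟩ :=
      Subtype.ext (hθx _)
    rw [e, MulAut.apply_inv_self]
  set z := ψ (Subgroup.inclusion le_sup_left x) with hz
  have h4 : z = (b ⟨t, ht⟩ : Ω) * ψ (Subgroup.inclusion (le_sup_left.trans hRP) r) := by
    rw [hbx ⟨t, ht⟩, hz, MonoidHom.comp_apply, ← map_mul]
    exact congrArg ψ (Subtype.ext htc.symm)
  set y := ((α : MulAut P) x : Ω) with hy
  have h5 : z * y⁻¹ ∈ T := hψx x
  have hnx : ∀ {u : Ω}, u ∈ (T ⊔ centralizerIn S T : Subgroup Ω) → ∀ {s : Ω}, s ∈ T → u⁻¹ * s * u ∈ T := fun {u} hu {s} hs =>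
    (Subgroup.mem_normalizer_iff''.1 (hn hu) s).1 hs
  have h6 : c⁻¹ * ψ (Subgroup.inclusion (le_sup_left.trans hRP) r) ∈ T := by
    have h := mul_mem h1 h2
    rw [← h3]
    simpa [hw, mul_assoc] using h
  have h7 : (x : Ω)⁻¹ * z ∈ T := by
    set d := ψ (Subgroup.inclusion (le_sup_left.trans hRP) r) with hd
    have e : (x : Ω)⁻¹ * z = (c⁻¹ * (t⁻¹ * (b ⟨t, ht⟩ : Ω)) * c) * (c⁻¹ * d) := by
      rw [h4, ← htc]; group
    rw [e]
    exact mul_mem (hnx (Subgroup.mem_sup_right hc) (mul_mem (inv_mem ht) (SetLike.coe_mem _))) h6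
  have h8 : (x : Ω)⁻¹ * y = ((x : Ω)⁻¹ * z) * (z⁻¹ * (z * y⁻¹) * z)⁻¹ := by group
  show (x : Ω)⁻¹ * y ∈ T
  rw [h8]
  exact mul_mem h7 (inv_mem (hnx (val_mem hψ _) h5))
where
  exists_mul_eq (hTS : T ≤ S) {x : Ω} (hx : x ∈ T ⊔ centralizerIn S T) :
      ∃ t ∈ T, ∃ c ∈ centralizerIn S T, t * c = x := by
    have h : ∀ c ∈ centralizerIn S T, c ∈ Subgroup.normalizer (T : Set Ω) := fun c hc =>
      Subgroup.centralizer_le_normalizer _ hc.2
    rw [← SetLike.mem_coe, Subgroup.coe_mul_of_right_le_normalizer_left T _ h] at hx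
    obtain ⟨t, ht, c, hc, e⟩ := hx
    exact ⟨t, ht, c, hc, e⟩

end Cfsg.Agent.Lib.Fusion.ResLimit
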